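import Groth.Agent.L23.QsTop

/-!
# Separatedness via affine fibre products
-/

universe u

open CategoryTheory CategoryTheory.Limits AlgebraicGeometry AlgSp
open scoped TensorProduct

set_option autoImplicit false
set_option linter.style.haveILetI false
set_option backward.isDefEq.respectTransparency false
set_option backward.isDefEq.respectTransparency.types false

noncomputable section

namespace Groth.L09.AffinePB

open Groth.L23

theorem closedImmersion_spec_iff {R T : CommRingCat.{u}} (φ : R ⟶ T) :
    IsClosedImmersion (Spec.map φ) ↔ Function.Surjective φ := by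
  refine ⟨fun h => ?_, IsClosedImmersion.spec_of_surjective φ⟩
  have hs : Function.Surjective (Spec.map φ).appTop := (IsClosedImmersion.isAffine_surjective_of_isAffine (Spec.map φ)).2
  intro t
  obtain ⟨r', hr'⟩ := hs ((Scheme.ΓSpecIso T).inv t)
  refine ⟨(Scheme.ΓSpecIso R).hom r', ?_⟩
  have := ConcreteCategory.congr_hom (Scheme.ΓSpecIso_naturality φ) r'
  simp only [CommRingCat.comp_apply] at this
  rw [← this, hr']
  exact ConcreteCategory.congr_hom (Scheme.ΓSpecIso T).inv_hom_id t

/-- The absolute fibre product criterion. -/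
theorem surjective_iff {U V P : Scheme.{u}} [IsAffine U] [IsAffine V] [IsAffine P] (fst : P ⟶ U) (snd : P ⟶ V) :
    Function.Surjective (Algebra.TensorProduct.productMap fst.appTop.hom.toIntAlgHom snd.appTop.hom.toIntAlgHom) ↔
      IsClosedImmersion (pullback.lift fst snd (terminal.hom_ext _ _) :
        P ⟶ pullback (terminal.from U) (terminal.from V)) := by
  let A := Γ(U, ⊤)
  let B := Γ(V, ⊤)
  let K := Spec (CommRingCat.of (ULift.{u} ℤ))
  let ψ : (A : Type u) ⊗[ℤ] (B : Type u) →ₐ[ℤ] Γ(P, ⊤) :=
    Algebra.TensorProduct.productMap fst.appTop.hom.toIntAlgHom snd.appTop.hom.toIntAlgHom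
  let Q := Spec (CommRingCat.of ((A : Type u) ⊗[ℤ] (B : Type u)))
  let q₁ : Q ⟶ U := Spec.map (CommRingCat.ofHom (Algebra.TensorProduct.includeLeftRingHom (R := ℤ) (A := A) (B := B))) ≫ U.isoSpec.inv
  let q₂ : Q ⟶ V := Spec.map (CommRingCat.ofHom
    ((Algebra.TensorProduct.includeRight : (B : Type u) →ₐ[ℤ] (A : Type u) ⊗[ℤ] (B : Type u)).toRingHom)) ≫ V.isoSpec.inv
  -- maps into the spectrum of the tensor product
  have hext : ∀ {Z : Scheme.{u}} (a b : Z ⟶ Q), a ≫ q₁ = b ≫ q₁ → a ≫ q₂ = b ≫ q₂ → a = b := by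
    intro Z a b h₁ h₂
    simp only [q₁, q₂, ← Category.assoc, cancel_mono] at h₁ h₂
    refine ext_of_isAffine ?_
    rw [← cancel_epi (Scheme.ΓSpecIso _).inv]
    have key : ∀ {R : CommRingCat.{u}} (ι : R ⟶ CommRingCat.of ((A : Type u) ⊗[ℤ] (B : Type u))),
        a ≫ Spec.map ι = b ≫ Spec.map ι →
        ι ≫ (Scheme.ΓSpecIso _).inv ≫ a.appTop = ι ≫ (Scheme.ΓSpecIso _).inv ≫ b.appTop := by
      intro R ι e
      rw [Scheme.ΓSpecIso_inv_naturality_assoc, Scheme.ΓSpecIso_inv_naturality_assoc, ← Scheme.Hom.comp_appTop,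
        ← Scheme.Hom.comp_appTop, e]
    have k₁ := key _ h₁
    have k₂ := key _ h₂
    apply CommRingCat.hom_ext
    refine RingHom.coe_inj (funext fun x => ?_)
    induction x using TensorProduct.induction_on with
    | zero => exact (map_zero _).trans (map_zero _).symm
    | tmul x y =>
      let φa := ((Scheme.ΓSpecIso (CommRingCat.of ((A : Type u) ⊗[ℤ] (B : Type u)))).inv ≫ a.appTop).hom
      let φb := ((Scheme.ΓSpecIso (CommRingCat.of ((A : Type u) ⊗[ℤ] (B : Type u)))).inv ≫ b.appTop).hom
      have e₁ : φa (x ⊗ₜ[ℤ] (1 : B)) = φb (x ⊗ₜ[ℤ] (1 : B)) := ConcreteCategory.congr_hom k₁ x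
      have e₂ : φa ((1 : A) ⊗ₜ[ℤ] y) = φb ((1 : A) ⊗ₜ[ℤ] y) := ConcreteCategory.congr_hom k₂ y
      show φa (x ⊗ₜ[ℤ] y) = φb (x ⊗ₜ[ℤ] y)
      rw [show x ⊗ₜ[ℤ] y = (x ⊗ₜ[ℤ] (1 : B)) * ((1 : A) ⊗ₜ[ℤ] y) by simp, map_mul, map_mul, e₁, e₂]
    | add x y hx hy => exact (map_add _ _ _).trans ((congrArg₂ (· + ·) hx hy).trans (map_add _ _ _).symm)
  have hQ : IsPullback q₁ q₂ (terminal.from U) (terminal.from V) := by
    refine IsPullback.mk' (terminal.hom_ext _ _) (fun Z a b h₁ h₂ => hext a b h₁ h₂) fun Z a b _ => ?_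
    let χ : (A : Type u) ⊗[ℤ] (B : Type u) →ₐ[ℤ] Γ(Z, ⊤) :=
      Algebra.TensorProduct.productMap a.appTop.hom.toIntAlgHom b.appTop.hom.toIntAlgHom
    refine ⟨Z.toSpecΓ ≫ Spec.map (CommRingCat.ofHom χ.toRingHom), ?_, ?_⟩
    · simp only [q₁, Category.assoc, ← Spec.map_comp_assoc]
      rw [← Category.assoc, Iso.comp_inv_eq, Scheme.isoSpec_hom, Scheme.toSpecΓ_naturality]
      congr 1
      apply congrArg Spec.map
      ext x
      simp [χ, A]
    · simp only [q₂, Category.assoc, ← Spec.map_comp_assoc]
      rw [← Category.assoc, Iso.comp_inv_eq, Scheme.isoSpec_hom, Scheme.toSpecΓ_naturality]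
      congr 1
      apply congrArg Spec.map
      ext x
      simp [χ, B]
  have e : P.isoSpec.hom ≫ Spec.map (CommRingCat.ofHom ψ.toRingHom) ≫ hQ.isoPullback.hom =
      pullback.lift fst snd (terminal.hom_ext _ _) := by
    apply pullback.hom_ext
    · simp only [Category.assoc, IsPullback.isoPullback_hom_fst, pullback.lift_fst, q₁, ← Spec.map_comp_assoc]
      rw [← Category.assoc, Iso.comp_inv_eq, Scheme.isoSpec_hom, Scheme.isoSpec_hom, Scheme.toSpecΓ_naturality]
      congr 1
      apply congrArg Spec.map
      ext x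
      simp [ψ, A]
    · simp only [Category.assoc, IsPullback.isoPullback_hom_snd, pullback.lift_snd, q₂, ← Spec.map_comp_assoc]
      rw [← Category.assoc, Iso.comp_inv_eq, Scheme.isoSpec_hom, Scheme.isoSpec_hom, Scheme.toSpecΓ_naturality]
      congr 1
      apply congrArg Spec.map
      ext x
      simp [ψ, B]
  rw [← e, MorphismProperty.cancel_left_of_respectsIso @IsClosedImmersion,
    MorphismProperty.cancel_right_of_respectsIso @IsClosedImmersion, closedImmersion_spec_iff]
  rfl

variable {S : Scheme.{u}}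

/-- A property of the diagonal is tested on fibre products of affines. -/
theorem repWith_diag_of_affine {Q : MorphismProperty Scheme.{u}} [Q.IsStableUnderBaseChange]
    [IsZariskiLocalAtTarget Q] {X : Sp S} (hX : IsAlgSpace X)
    (h : ∀ (U V P : Over S) (a : (yon S).obj U ⟶ X) (b : (yon S).obj V ⟶ X) (fst : P ⟶ U) (snd : P ⟶ V),
      IsAffine U.left → IsAffine V.left → IsPullback ((yon S).map fst) ((yon S).map snd) a b →
        Q (prod.lift fst snd).left) :
    RepWith Q (Limits.diag X) := by
  refine repWith_of_snd hX.diag fun T g => ?_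
  refine IsZariskiLocalAtTarget.of_openCover T.left.affineCover fun i => ?_
  let O : Over S := Over.mk (T.left.affineCover.f i ≫ T.hom)
  let j : O ⟶ T := Over.homMk (T.left.affineCover.f i)
  have : IsAffine O.left := inferInstanceAs (IsAffine (T.left.affineCover.X i))
  let a := (yon S).map j ≫ g ≫ prod.fst
  let b := (yon S).map j ≫ g ≫ prod.snd
  obtain ⟨P, p₁, p₂, sP⟩ := exists_isPullback_of_representable (hX.representable_from_yon a) b
  have sD := isPullback_diag sP
  let d : O ⟶ O ⨯ O := prod.lift (𝟙 O) (𝟙 O)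
  let e := prod.lift ((yon S).map p₁) ((yon S).map p₂)
  have he : RepWith Q e := by
    rw [show e = (yon S).map (prod.lift p₁ p₂) ≫ prodComparison (yon S) O O by
      ext <;> simp [e, ← Functor.map_comp]]
    exact (MorphismProperty.cancel_right_of_respectsIso (RepWith Q) _ _).2
      (repWith_map (h O O P a b p₁ p₂ inferInstance inferInstance sP))
  obtain ⟨R, q, r, sQ⟩ := exists_isPullback_of_representable (U := P) (V := O) he.1
    ((yon S).map d ≫ prodComparison (yon S) O O)
  have hr : Q r.left := repWith_prop he sQ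
  have hg : ((yon S).map d ≫ prodComparison (yon S) O O) ≫ prod.map a b = (yon S).map j ≫ g := by
    apply prod.hom_ext
    · rw [Category.assoc, prod.map_fst, Category.assoc, prodComparison_fst_assoc, ← Functor.map_comp_assoc,
        prod.lift_fst, (yon S).map_id, Category.id_comp, Category.assoc]
    · rw [Category.assoc, prod.map_snd, Category.assoc, prodComparison_snd_assoc, ← Functor.map_comp_assoc,
        prod.lift_snd, (yon S).map_id, Category.id_comp, Category.assoc]
  have sQ' := sQ.paste_horiz sD
  rw [hg] at sQ'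
  let sq₀ := IsPullback.of_hasPullback (hX.diag.snd g) j
  have sq₁ := (sq₀.map (yon S)).paste_horiz (hX.diag.isPullback g)
  obtain ⟨i', hi'⟩ := (yon S).map_surjective (sq₁.isoIsPullback _ _ sQ').hom
  have : IsIso ((yon S).map i') := by rw [hi']; infer_instance
  have : IsIso i' := isIso_of_fully_faithful (yon S) i'
  have : IsIso i'.left := inferInstanceAs (IsIso ((Over.forget S).map i'))
  have e' : i' ≫ r = pullback.snd (hX.diag.snd g) j := (yon S).map_injective (by
    rw [Functor.map_comp, hi']; exact IsPullback.isoIsPullback_hom_snd _ _ _ _)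
  have sq₂ := sq₀.map (Over.forget S)
  show Q (pullback.snd (hX.diag.snd g).left (T.left.affineCover.f i))
  have e₂ : sq₂.isoPullback.inv ≫ (pullback.snd (hX.diag.snd g) j).left =
      pullback.snd (hX.diag.snd g).left (T.left.affineCover.f i) := sq₂.isoPullback_inv_snd
  have hQ : Q (sq₂.isoPullback.inv ≫ (pullback.snd (hX.diag.snd g) j).left) := by
    refine (MorphismProperty.cancel_left_of_respectsIso Q _ _).2 ?_
    have e₃ : (pullback.snd (hX.diag.snd g) j).left = i'.left ≫ r.left :=
      congrArg CommaMorphism.left e'.symm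
    exact e₃.symm ▸ (MorphismProperty.cancel_left_of_respectsIso Q _ _).2 hr
  exact e₂ ▸ hQ

/-- Comparison of the relative and the absolute product. -/
theorem lift_eq {U V P : Over S} (fst : P ⟶ U) (snd : P ⟶ V) :
    ∃ m : (U ⨯ V : Over S).left ⟶ pullback (terminal.from U.left) (terminal.from V.left),
      (S.IsSeparated → IsClosedImmersion m) ∧ IsSeparated m ∧
      (prod.lift fst snd).left ≫ m = pullback.lift fst.left snd.left (terminal.hom_ext _ _) := by
  let δ : pullback U.hom V.hom ⟶ pullback (terminal.from U.left) (terminal.from V.left) :=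
    pullback.map _ _ _ _ (𝟙 _) (𝟙 _) (terminal.from S) (terminal.hom_ext _ _) (terminal.hom_ext _ _)
  let m := (Over.prodLeftIsoPullback U V).hom ≫ δ
  haveI : Mono δ := ⟨fun a b h => pullback.hom_ext (by simpa [δ, pullback.map] using h =≫ pullback.fst _ _)
    (by simpa [δ, pullback.map] using h =≫ pullback.snd _ _)⟩
  refine ⟨m, fun hS => ?_, inferInstance, ?_⟩
  · haveI := hS
    haveI : IsSeparated (terminal.from S) := hS.1
    haveI : IsClosedImmersion δ := by
      have e : δ = pullback.mapDesc U.hom V.hom (terminal.from S) ≫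
          (pullback.congrHom (terminal.hom_ext _ _) (terminal.hom_ext _ _)).hom := by
        apply pullback.hom_ext <;> simp [δ, pullback.map, pullback.mapDesc]
      rw [e]
      infer_instance
    infer_instance
  · apply pullback.hom_ext
    · simp [m, δ, pullback.map, ← Over.comp_left]
    · simp [m, δ, pullback.map, ← Over.comp_left]

theorem isSeparatedSp_of_surjective {X : Sp S} (hX : IsAlgSpace X)
    (h : ∀ (U V P : Over S) (a : (yon S).obj U ⟶ X) (b : (yon S).obj V ⟶ X) (fst : P ⟶ U) (snd : P ⟶ V),
      IsAffine U.left → IsAffine V.left → IsPullback ((yon S).map fst) ((yon S).map snd) a b →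
        IsAffine P.left ∧ Function.Surjective
          (Algebra.TensorProduct.productMap fst.left.appTop.hom.toIntAlgHom snd.left.appTop.hom.toIntAlgHom)) :
    IsSeparatedSp X := by
  refine repWith_diag_of_affine hX fun U V P a b fst snd hU hV sq => ?_
  obtain ⟨hP, hs⟩ := h U V P a b fst snd hU hV sq
  haveI := hU; haveI := hV; haveI := hP
  obtain ⟨m, -, hm, e⟩ := lift_eq fst snd
  have hc := (surjective_iff fst.left snd.left).1 hs
  rw [← e] at hc
  haveI := hc; haveI := hm
  exact IsClosedImmersion.of_comp (prod.lift fst snd).left m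

theorem surjective_of_isSeparatedSp [S.IsSeparated] {X : Sp S} (hX : IsSeparatedSp X) {U V P : Over S}
    (a : (yon S).obj U ⟶ X) (b : (yon S).obj V ⟶ X) (fst : P ⟶ U) (snd : P ⟶ V) [IsAffine U.left] [IsAffine V.left]
    (h : IsPullback ((yon S).map fst) ((yon S).map snd) a b) :
    IsAffine P.left ∧ Function.Surjective
      (Algebra.TensorProduct.productMap fst.left.appTop.hom.toIntAlgHom snd.left.appTop.hom.toIntAlgHom) := by
  have h' := repWith_of_isPullback (isPullback_diag h) hX
  rw [show prod.lift ((yon S).map fst) ((yon S).map snd) =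
    (yon S).map (prod.lift fst snd) ≫ prodComparison (yon S) U V by
      ext <;> simp [← Functor.map_comp]] at h'
  haveI : IsClosedImmersion (prod.lift fst snd).left :=
    (repWith_yon_map_iff _ _).1 ((MorphismProperty.cancel_right_of_respectsIso (RepWith @IsClosedImmersion) _ _).1 h')
  obtain ⟨m, hm, -, e⟩ := lift_eq fst snd
  haveI := hm inferInstance
  haveI : IsClosedImmersion (pullback.lift fst.left snd.left (terminal.hom_ext _ _) :
      P.left ⟶ pullback (terminal.from U.left) (terminal.from V.left)) := by rw [← e]; infer_instance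
  haveI : IsAffine P.left := isAffine_of_isAffineHom (pullback.lift fst.left snd.left (terminal.hom_ext _ _) :
    P.left ⟶ pullback (terminal.from U.left) (terminal.from V.left))
  exact ⟨inferInstance, (surjective_iff fst.left snd.left).2 inferInstance⟩

end Groth.L09.AffinePB
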